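import Mathlib
import Cfsg.Agent.Lib.PGroup.Frattini
import Cfsg.Agent.Lib.PGroup.Extraspecial

/-!
# Groups of symplectic type: auxiliary counting
-/

set_option autoImplicit false
set_option linter.style.haveILetI false

namespace Cfsg.Agent.Lib.SymplecticType

open Subgroup Cfsg
open scoped commutatorElement
open Cfsg.Agent.Lib

variable {G : Type*} [Group G] [Finite G] {p : ℕ} [hp : Fact p.Prime]

theorem mem_zpowers_of_pow_eq_one {Z : Subgroup G} (hZ : IsCyclic Z) {x y : G} (hx : x ∈ Z)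
    (hy : y ∈ Z) (hxp : x ^ p = 1) (hyp : y ^ p = 1) (hy1 : y ≠ 1) : x ∈ zpowers y := by
  classical
  haveI := hZ
  haveI := Fintype.ofFinite Z
  have hle := IsCyclic.card_pow_eq_one_le (α := Z) hp.out.pos
  have ho : orderOf (⟨y, hy⟩ : Z) = p :=
    orderOf_eq_prime (Subtype.ext hyp) fun h => hy1 (congrArg Subtype.val h)
  have hsub : (Set.toFinset (zpowers (⟨y, hy⟩ : Z) : Set Z)) ⊆
      Finset.univ.filter (fun a : Z => a ^ p = 1) := by
    intro a ha
    rw [Set.mem_toFinset] at ha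
    obtain ⟨i, rfl⟩ := mem_zpowers_iff.mp ha
    rw [Finset.mem_filter]
    refine ⟨Finset.mem_univ _, ?_⟩
    rw [← zpow_natCast, zpow_comm, zpow_natCast, show (⟨y, hy⟩ : Z) ^ p = 1 from Subtype.ext hyp,
      one_zpow]
  have hcard : (Set.toFinset (zpowers (⟨y, hy⟩ : Z) : Set Z)).card = p := by
    rw [Set.toFinset_card, ← Nat.card_eq_fintype_card]
    exact (Nat.card_zpowers _).trans ho
  have heq := Finset.eq_of_subset_of_card_le hsub (hle.trans hcard.ge)
  have hxm : (⟨x, hx⟩ : Z) ∈ Finset.univ.filter (fun a : Z => a ^ p = 1) :=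
    Finset.mem_filter.mpr ⟨Finset.mem_univ _, Subtype.ext hxp⟩
  rw [← heq, Set.mem_toFinset] at hxm
  obtain ⟨i, hi⟩ := mem_zpowers_iff.mp hxm
  exact mem_zpowers_iff.mpr ⟨i, by simpa using congrArg Subtype.val hi⟩

/-- Counting with a commutator pairing into a group of order at most `p`. -/
theorem relIndex_centralizer_le {P Z0 Z1 : Subgroup G} [IsMulCommutative Z1] (hZ1 : Nat.card Z1 ≤ p)
    (hZ1P : Z1 ≤ centralizer (P : Set G)) (hZ0 : Z0 ≤ centralizer (P : Set G)) :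
    ∀ (n : ℕ) (D : Subgroup G), Nat.card D = n → IsPGroup p D → Z0 ≤ D →
      (∀ g ∈ P, ∀ x ∈ D, ⁅g, x⁆ ∈ Z1) →
      (P ⊓ centralizer (D : Set G)).relIndex P ≤ Z0.relIndex D := by
  intro n
  induction n using Nat.strong_induction_on with
  | _ n ih =>
  intro D hn hD hZ0D hcomm
  by_cases heq : Z0 = D
  · subst heq
    rw [relIndex_self, inf_eq_left.mpr (le_centralizer_iff.mp hZ0), relIndex_self]
  haveI : Finite (Subgroup G) := Finite.of_injective _ SetLike.coe_injective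
  obtain ⟨D', ⟨hZD', hD'D⟩, hmax⟩ := Set.Finite.exists_maximal
    (s := {D' : Subgroup G | Z0 ≤ D' ∧ D' < D}) (Set.toFinite _)
    ⟨Z0, le_rfl, lt_of_le_of_ne hZ0D heq⟩
  obtain ⟨x, hxD, hxD'⟩ := SetLike.exists_of_lt hD'D
  have hgen : D' ⊔ zpowers x = D := by
    refine le_antisymm (sup_le hD'D.le (zpowers_le.mpr hxD)) ?_
    by_contra hne
    have hlt : D' ⊔ zpowers x < D := lt_of_le_not_ge (sup_le hD'D.le (zpowers_le.mpr hxD)) hne
    exact hxD' (hmax ⟨hZD'.trans le_sup_left, hlt⟩ le_sup_left (mem_sup_right (mem_zpowers x)))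
  have hlt : Nat.card D' < n := by
    rw [← hn]
    exact lt_of_le_of_ne (card_le_of_le hD'D.le)
      fun h => hD'D.ne (eq_of_le_of_card_ge hD'D.le h.ge)
  have hIH := ih _ hlt D' rfl (hD.to_le hD'D.le) hZD' fun g hg y hy => hcomm g hg y (hD'D.le hy)
  have hx : (P ⊓ centralizer ({x} : Set G)).relIndex P ≤ p := by
    let χ : P →* Z1 := MonoidHom.mk' (fun g => ⟨⁅(g : G), x⁆, hcomm g g.2 x hxD⟩) fun a b =>
      Subtype.ext (by
        show ⁅(a : G) * b, x⁆ = ⁅(a : G), x⁆ * ⁅(b : G), x⁆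
        have hb := mem_centralizer_iff.mp (hZ1P (hcomm b b.2 x hxD)) a a.2
        have h1 : ⁅(a : G) * b, x⁆ = (a : G) * ⁅(b : G), x⁆ * (a : G)⁻¹ * ⁅(a : G), x⁆ := by
          simp [commutatorElement_def, mul_assoc]
        rw [h1, hb, mul_inv_cancel_right]
        exact setLike_mul_comm (hcomm b b.2 x hxD) (hcomm a a.2 x hxD))
    have hker : (P ⊓ centralizer ({x} : Set G)).subgroupOf P = χ.ker := by
      ext g
      rw [mem_subgroupOf, mem_inf, MonoidHom.mem_ker, Subtype.ext_iff]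
      show (g : G) ∈ P ∧ _ ↔ ⁅(g : G), x⁆ = 1
      rw [commutatorElement_eq_one_iff_mul_comm, mem_centralizer_singleton_iff]
      exact ⟨fun h => h.2, fun h => ⟨g.2, h⟩⟩
    rw [relIndex, hker, index_ker]
    exact (card_le_card_group _).trans hZ1
  have hcen : P ⊓ centralizer (D : Set G) =
      (P ⊓ centralizer (D' : Set G)) ⊓ (P ⊓ centralizer ({x} : Set G)) := by
    rw [← hgen, zpowers_eq_closure, ← closure_eq D', ← Subgroup.closure_union, centralizer_closure, closure_eq]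
    ext g
    simp only [mem_inf, mem_centralizer_iff, Set.mem_union, SetLike.mem_coe, Set.mem_singleton_iff]
    constructor
    · exact fun h => ⟨⟨h.1, fun y hy => h.2 y (Or.inl hy)⟩, h.1, fun y hy => h.2 y (Or.inr hy)⟩
    · exact fun h => ⟨h.1.1, fun y hy => hy.elim (h.1.2 y) (h.2.2 y)⟩
  have hstep : p ≤ D'.relIndex D := by
    obtain ⟨k, hk⟩ := IsPGroup.iff_card.mp hD
    obtain ⟨i, -, hi⟩ := (Nat.dvd_prime_pow hp.out).mp (hk ▸ relIndex_dvd_card D' D)
    rw [hi]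
    refine Nat.le_self_pow (fun h0 => hD'D.not_ge ?_) p
    rw [h0, pow_zero, relIndex_eq_one] at hi
    exact hi
  calc (P ⊓ centralizer (D : Set G)).relIndex P
      ≤ (P ⊓ centralizer (D' : Set G)).relIndex P * (P ⊓ centralizer ({x} : Set G)).relIndex P := by
        rw [hcen]; exact relIndex_inf_le
    _ ≤ Z0.relIndex D' * p := Nat.mul_le_mul hIH hx
    _ ≤ Z0.relIndex D' * D'.relIndex D := Nat.mul_le_mul_left _ hstep
    _ = Z0.relIndex D := relIndex_mul_relIndex _ _ _ hZD' hD'D.le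

theorem characteristic_zpowers_pow {Z : Subgroup G} [Z.Characteristic] {c : G}
    (hc : zpowers c = Z) (n : ℕ) : (zpowers (c ^ n)).Characteristic := by
  rw [characteristic_iff_map_le]
  intro φ
  rw [MonoidHom.map_zpowers, zpowers_le]
  have h1 : φ c ∈ Z :=
    (characteristic_iff_map_le.mp ‹Z.Characteristic› φ) (mem_map_of_mem φ.toMonoidHom (hc ▸ mem_zpowers c))
  rw [← hc] at h1
  obtain ⟨k, hk⟩ := mem_zpowers_iff.mp h1
  refine mem_zpowers_iff.mpr ⟨k, ?_⟩
  show _ = φ (c ^ n)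
  rw [map_pow, ← hk, ← zpow_natCast, ← zpow_mul, ← zpow_natCast (c ^ k), ← zpow_mul, mul_comm]

/-- If every characteristic abelian subgroup is cyclic, then in a characteristic subgroup of
class two whose commutators have order at most `p` and whose centre has exponent above `p`, every
`p`-th power is the `p`-th power of a central element. -/
theorem pow_mem_pow_center (hG : IsPGroup p G)
    (hsymp : ∀ A : Subgroup G, A.Characteristic → IsMulCommutative A → IsCyclic A)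
    {P : Subgroup G} [P.Characteristic] {c : G} (hc : zpowers c = P ⊓ centralizer (P : Set G))
    (hcp : c ^ p ≠ 1)
    (hcomm : ∀ x ∈ P, ∀ y ∈ P, ⁅x, y⁆ ∈ zpowers c ∧ ⁅x, y⁆ ^ p = 1) :
    ∀ x ∈ P, x ^ p ∈ zpowers (c ^ p) := by
  classical
  have hcP : c ∈ P ∧ c ∈ centralizer (P : Set G) := mem_inf.mp (hc ▸ mem_zpowers c)
  have hcen : ∀ z ∈ zpowers c, ∀ y ∈ P, y * z = z * y := fun z hz y hy =>
    mem_centralizer_iff.mp (mem_inf.mp (hc ▸ hz)).2 y hy
  have hcenP : ∀ (z : G) (hz : z ∈ P), z ∈ zpowers c → (⟨z, hz⟩ : P) ∈ center P := fun z hz h =>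
    mem_center_iff.mpr fun y => Subtype.ext (hcen z h y y.2)
  -- elements of order `p` in `⟨c⟩` are `p`-th powers
  have hom : ∀ z ∈ zpowers c, z ^ p = 1 → z ∈ zpowers (c ^ p) := by
    intro z hz hzp
    obtain ⟨i, rfl⟩ := mem_zpowers_iff.mp hz
    obtain ⟨m, hm⟩ := hG c
    by_cases hi : (p : ℤ) ∣ i
    · obtain ⟨j, rfl⟩ := hi
      exact mem_zpowers_iff.mpr ⟨j, by rw [zpow_mul, zpow_natCast]⟩
    · exfalso
      obtain ⟨u, v, huv⟩ := ((Nat.prime_iff_prime_int.1 hp.out).coprime_iff_not_dvd.2 hi).pow_left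
        (m := m)
      apply hcp
      have h1 : (c ^ p) ^ ((p : ℤ) ^ m) = 1 := by
        rw [← Nat.cast_pow, zpow_natCast, ← pow_mul, mul_comm, pow_mul, hm, one_pow]
      have h2 : (c ^ p) ^ i = 1 := by
        rw [← zpow_natCast c, zpow_comm, zpow_natCast, hzp]
      rw [← zpow_one (c ^ p), ← huv, zpow_add, mul_comm u, zpow_mul, h1, mul_comm v, zpow_mul, h2,
        one_zpow, one_zpow, one_mul]
  have hpowc : ∀ x ∈ P, x ^ p ∈ zpowers c := by
    intro x hx
    rw [hc]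
    refine mem_inf.mpr ⟨pow_mem hx p, mem_centralizer_iff.mpr fun y hy => ?_⟩
    have h2 := Extraspecial.commutator_pow_left (a := (⟨x, hx⟩ : P)) (c := (⟨y, hy⟩ : P))
      (hcenP _ _ (hcomm x hx y hy).1) p
    have h3 : ⁅x ^ p, y⁆ = ⁅x, y⁆ ^ p := congrArg Subtype.val h2
    rw [(hcomm x hx y hy).2, commutatorElement_eq_one_iff_mul_comm] at h3
    exact h3.symm
  let P0 : Subgroup G :=
    { carrier := {x | x ∈ P ∧ x ^ p ∈ zpowers (c ^ p)}
      one_mem' := ⟨one_mem _, by rw [one_pow]; exact one_mem _⟩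
      inv_mem' := fun {x} hx => ⟨inv_mem hx.1, by rw [inv_pow]; exact inv_mem hx.2⟩
      mul_mem' := fun {x y} hx hy => ⟨mul_mem hx.1 hy.1, by
        have h := congrArg Subtype.val (Extraspecial.mul_pow_eq (a := (⟨x, hx.1⟩ : P))
          (b := (⟨y, hy.1⟩ : P)) (hcenP _ _ (hcomm y hy.1 x hx.1).1) p)
        have h' : (x * y) ^ p = x ^ p * y ^ p * ⁅y, x⁆ ^ p.choose 2 := h
        rw [h']
        exact mul_mem (mul_mem hx.2 hy.2)
          (pow_mem (hom _ (hcomm y hy.1 x hx.1).1 (hcomm y hy.1 x hx.1).2) _)⟩ }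
  have hP0P : P0 ≤ P := fun x hx => hx.1
  have hcP0 : zpowers c ≤ P0 := by
    rw [zpowers_le]
    exact ⟨hcP.1, mem_zpowers _⟩
  haveI : (P ⊓ centralizer (P : Set G)).Characteristic := inferInstance
  haveI hTchar := characteristic_zpowers_pow hc p
  haveI : P0.Characteristic := by
    rw [characteristic_iff_map_le]
    rintro φ _ ⟨x, hx, rfl⟩
    refine ⟨(characteristic_iff_map_le.mp ‹P.Characteristic› φ) (mem_map_of_mem _ hx.1), ?_⟩
    show φ x ^ p ∈ _
    rw [← map_pow]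
    exact (characteristic_iff_map_le.mp hTchar φ) (mem_map_of_mem φ.toMonoidHom hx.2)
  -- outside `P0` one element generates
  have hgen : ∀ x ∈ P, x ∉ P0 → P ≤ P0 ⊔ zpowers x := by
    intro x hx hx0 y hy
    obtain ⟨a, ha⟩ := mem_zpowers_iff.mp (hpowc x hx)
    obtain ⟨b, hb⟩ := mem_zpowers_iff.mp (hpowc y hy)
    have hpa : ¬ (p : ℤ) ∣ a := by
      rintro ⟨a', rfl⟩
      exact hx0 ⟨hx, mem_zpowers_iff.mpr ⟨a', by rw [← ha, zpow_mul, zpow_natCast]⟩⟩
    obtain ⟨u, v, huv⟩ := (Nat.prime_iff_prime_int.1 hp.out).coprime_iff_not_dvd.2 hpa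
    have hxP : x ^ (-(b * v)) ∈ P := zpow_mem hx _
    have hmem : y * x ^ (-(b * v)) ∈ P0 := by
      refine ⟨mul_mem hy hxP, ?_⟩
      have h := congrArg Subtype.val (Extraspecial.mul_pow_eq (a := (⟨y, hy⟩ : P))
        (b := (⟨_, hxP⟩ : P)) (hcenP _ _ (hcomm _ hxP y hy).1) p)
      have h' : (y * x ^ (-(b * v))) ^ p =
          y ^ p * (x ^ (-(b * v))) ^ p * ⁅x ^ (-(b * v)), y⁆ ^ p.choose 2 := h
      rw [h']
      refine mul_mem ?_ (pow_mem (hom _ (hcomm _ hxP y hy).1 (hcomm _ hxP y hy).2) _)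
      refine mem_zpowers_iff.mpr ⟨b * u, ?_⟩
      rw [← hb, ← zpow_natCast (x ^ (-(b * v))), zpow_comm, zpow_natCast, ← ha, ← zpow_mul,
        ← zpow_add, ← zpow_natCast, ← zpow_mul]
      congr 1
      linear_combination b * huv
    have hy' : y = y * x ^ (-(b * v)) * x ^ (b * v) := by
      rw [mul_assoc, ← zpow_add, neg_add_cancel, zpow_zero, mul_one]
    rw [hy']
    exact mul_mem (mem_sup_left hmem) (mem_sup_right (zpow_mem (mem_zpowers x) _))
  intro x hxP
  by_contra hxT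
  have hx0 : x ∉ P0 := fun h => hxT h.2
  -- the centre of `P0`
  set W := P0 ⊓ centralizer (P0 : Set G) with hW
  have hWab : IsMulCommutative W := ⟨⟨fun a b => Subtype.ext
    ((mem_centralizer_iff.mp (mem_inf.mp a.2).2 _ (mem_inf.mp b.2).1).symm)⟩⟩
  obtain ⟨⟨w, hw⟩, hwgen⟩ := (hsymp W characteristic_inf hWab).exists_generator
  have hWc : W ≤ zpowers c := by
    have hcW : c ∈ W := mem_inf.mpr ⟨hcP0 (mem_zpowers c),
      centralizer_le (SetLike.coe_subset_coe.2 hP0P) hcP.2⟩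
    obtain ⟨k, hk⟩ := mem_zpowers_iff.mp (hwgen ⟨c, hcW⟩)
    have hk' : w ^ k = c := congrArg Subtype.val hk
    obtain ⟨j, hj⟩ := mem_zpowers_iff.mp (mem_inf.mp hw).1.2
    have hpk : ¬ (p : ℤ) ∣ k := by
      rintro ⟨k', rfl⟩
      rw [zpow_mul, zpow_natCast, ← hj, ← zpow_natCast c, ← zpow_mul, ← zpow_mul] at hk'
      obtain ⟨m, hm⟩ := hG c
      have h1 : c ^ ((p : ℤ) * j * k' - 1) = 1 := by rw [zpow_sub_one, mul_assoc, hk', mul_inv_cancel]
      obtain ⟨u, v, huv⟩ := (show IsCoprime (p : ℤ) ((p : ℤ) * j * k' - 1) from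
        ⟨j * k', -1, by ring⟩).pow_left (m := m)
      apply hcp
      have h2 : c = 1 := by
        rw [← zpow_one c, ← huv, zpow_add, mul_comm u, mul_comm v, zpow_mul, zpow_mul, h1,
          ← Nat.cast_pow, zpow_natCast, hm, one_zpow, one_zpow, one_mul]
      rw [h2, one_pow]
    obtain ⟨m, hm⟩ := hG w
    obtain ⟨u, v, huv⟩ :=
      ((Nat.prime_iff_prime_int.1 hp.out).coprime_iff_not_dvd.2 hpk).pow_left (m := m)
    have hwc : w ∈ zpowers c := mem_zpowers_iff.mpr ⟨v, by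
      rw [← hk', ← zpow_mul]
      conv_rhs => rw [← zpow_one w, ← huv, zpow_add, mul_comm u, zpow_mul, ← Nat.cast_pow,
        zpow_natCast, hm, one_zpow, one_mul, mul_comm v]⟩
    intro z hz
    obtain ⟨l, hl⟩ := mem_zpowers_iff.mp (hwgen ⟨z, hz⟩)
    rw [← show w ^ l = z from congrArg Subtype.val hl]
    exact zpow_mem hwc l
  -- counting
  let Z1 : Subgroup G :=
    { carrier := {a | a ∈ zpowers c ∧ a ^ p = 1}
      one_mem' := ⟨one_mem _, one_pow _⟩
      inv_mem' := fun {a} ha => ⟨inv_mem ha.1, by rw [inv_pow, ha.2, inv_one]⟩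
      mul_mem' := fun {a b} ha hb => ⟨mul_mem ha.1 hb.1, by
        rw [(Commute.mul_pow (setLike_mul_comm ha.1 hb.1) p), ha.2, hb.2, one_mul]⟩ }
  haveI : IsMulCommutative Z1 := ⟨⟨fun a b => Subtype.ext (setLike_mul_comm a.2.1 b.2.1)⟩⟩
  have hmem1 : ∀ a, a ∈ Z1 ↔ a ∈ zpowers c ∧ a ^ p = 1 := fun a => Iff.rfl
  have hZ1 : Nat.card Z1 ≤ p := by
    rcases eq_or_ne Z1 ⊥ with h | h
    · rw [h, card_bot]; exact hp.out.one_le
    · obtain ⟨⟨z, hz⟩, ha⟩ := Z1.ne_bot_iff_exists_ne_one.mp h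
      have hz1 : z ≠ 1 := fun e => ha (Subtype.ext e)
      obtain ⟨hzc, hzp⟩ := (hmem1 z).mp hz
      refine (card_le_of_le (K := zpowers z) fun a ha => ?_).trans ?_
      · obtain ⟨hac, hap⟩ := (hmem1 a).mp ha
        exact mem_zpowers_of_pow_eq_one inferInstance hac hzc hap hzp hz1
      · rw [Nat.card_zpowers, orderOf_eq_prime hzp hz1]
  have hZ1P : Z1 ≤ centralizer (P : Set G) := fun a ha =>
    mem_centralizer_iff.mpr (hcen a ((hmem1 a).mp ha).1)
  have hcount := relIndex_centralizer_le hZ1 hZ1P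
    (le_of_eq hc |>.trans inf_le_right) _ P0 rfl (hG.to_subgroup P0) hcP0
    fun g hg y hy => (hmem1 _).mpr (hcomm g hg y hy.1)
  set Y := P ⊓ centralizer (P0 : Set G) with hY
  have hcY : zpowers c ≤ Y := fun a ha => mem_inf.mpr ⟨(mem_inf.mp (hc ▸ ha)).1,
    centralizer_le (SetLike.coe_subset_coe.2 hP0P) (mem_inf.mp (hc ▸ ha)).2⟩
  have hne : ∃ y ∈ Y, y ∉ P0 := by
    by_contra hcon
    push_neg at hcon
    have hYc : Y = zpowers c := le_antisymm (fun y hy =>
      hWc (mem_inf.mpr ⟨hcon y hy, (mem_inf.mp hy).2⟩)) hcY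
    rw [hYc, ← relIndex_mul_relIndex _ _ _ hcP0 hP0P] at hcount
    have h2 : P0.relIndex P = 1 := by
      have hpos : 0 < (zpowers c).relIndex P0 :=
        Nat.pos_of_ne_zero index_ne_zero_of_finite
      have hpos' : 0 < P0.relIndex P := Nat.pos_of_ne_zero index_ne_zero_of_finite
      nlinarith
    exact hx0 (relIndex_eq_one.mp h2 hxP)
  obtain ⟨y, hyY, hy0⟩ := hne
  refine hy0 (hcP0 (hc ▸ mem_inf.mpr ⟨(mem_inf.mp hyY).1, ?_⟩))
  have hle : P0 ⊔ zpowers y ≤ centralizer ({y} : Set G) :=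
    sup_le (fun a ha => mem_centralizer_singleton_iff.mpr
      (mem_centralizer_iff.mp (mem_inf.mp hyY).2 a ha))
      (zpowers_le.mpr (mem_centralizer_singleton_iff.mpr rfl))
  exact mem_centralizer_iff.mpr fun a ha =>
    mem_centralizer_singleton_iff.mp (hle (hgen y (mem_inf.mp hyY).1 hy0 ha))

end Cfsg.Agent.Lib.SymplecticType
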